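import Groth.Agent.DvrDom.KrullAkizuki

/-! Krull–Akizuki length bound for torsion free modules of finite rank. -/

universe u v

namespace Groth.Agent.KALen

open Submodule nonZeroDivisors
open scoped Pointwise

variable {C : Type u} [CommRing C] [IsDomain C] [IsNoetherianRing C] [Ring.KrullDimLE 1 C]
variable {K : Type v} [Field K] [Algebra C K] [IsFractionRing C K]

/-- rank one -/
theorem length_le_ord {B : Type v} [AddCommGroup B] [Module C B] (ι : B →ₗ[C] K) (hι : Function.Injective ι)
    {a : C} (ha : a ≠ 0) :
    Module.length C (B ⧸ LinearMap.range (LinearMap.lsmul C B a)) ≤ Ring.ord C a := by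
  classical
  let π := (LinearMap.range (LinearMap.lsmul C B a)).mkQ
  have hfg : ∀ N : Submodule C B, N.FG → Module.length C (N.map π) ≤ Ring.ord C a := by
    intro N hN
    obtain ⟨s, hs⟩ := hN
    obtain ⟨c, hc⟩ := IsLocalization.exist_integer_multiples_of_finset C⁰ (s.image ι)
    have hint : ∀ x ∈ N, ∃ j : C, algebraMap C K j = (c : C) • ι x := by
      intro x hx
      rw [← hs] at hx
      induction hx using Submodule.span_induction with
      | mem y hy => exact hc (ι y) (Finset.mem_image_of_mem _ hy)
      | zero => exact ⟨0, by simp⟩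
      | add y z _ _ hy hz =>
        obtain ⟨j, hj⟩ := hy
        obtain ⟨k, hk⟩ := hz
        exact ⟨j + k, by simp [hj, hk, smul_add]⟩
      | smul r y _ hy =>
        obtain ⟨j, hj⟩ := hy
        exact ⟨r * j, by rw [map_mul, hj, map_smul, smul_comm, ← Algebra.smul_def]⟩
    choose g hg using hint
    have hinj : Function.Injective (algebraMap C K) := IsFractionRing.injective C K
    have hc0 : (c : C) ≠ 0 := nonZeroDivisors.ne_zero c.2
    let gl : N →ₗ[C] C :=
      { toFun := fun x ↦ g x.1 x.2
        map_add' := fun x y ↦ hinj (by simp [hg, smul_add])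
        map_smul' := fun r x ↦ hinj (by
          simp only [hg, RingHom.id_apply, smul_eq_mul, map_mul, Submodule.coe_smul, map_smul]
          rw [smul_comm, ← Algebra.smul_def]) }
    have hglinj : Function.Injective gl := by
      intro x y hxy
      have : (c : C) • ι x = (c : C) • ι y := by
        rw [← hg x.1 x.2, ← hg y.1 y.2]
        exact congrArg _ hxy
      rw [Algebra.smul_def, Algebra.smul_def] at this
      exact Subtype.ext (hι (mul_left_cancel₀ (by simpa [map_eq_zero_iff _ hinj] using hc0) this))
    let J : Ideal C := LinearMap.range gl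
    by_cases hbot : J = ⊥
    · have : N = ⊥ := by
        rw [Submodule.eq_bot_iff]
        intro x hx
        have : gl ⟨x, hx⟩ ∈ J := ⟨_, rfl⟩
        rw [hbot, Submodule.mem_bot] at this
        exact congrArg Subtype.val (hglinj (this.trans (map_zero gl).symm))
      subst this
      rw [Submodule.map_bot, Module.length_eq_zero]
      exact zero_le
    obtain ⟨j, hjJ, hj0⟩ := Submodule.exists_mem_ne_zero_of_ne_bot hbot
    have hJ : Module.length C (C ⧸ J) ≠ ⊤ :=
      ne_top_of_le_ne_top (Ring.ord_ne_top (R := C) (mem_nonZeroDivisors_of_ne_zero hj0))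
        (Module.length_le_of_surjective (Submodule.factor ((Ideal.span_singleton_le_iff_mem _).mpr hjJ))
          (Submodule.factor_surjective _))
    let e : N ≃ₗ[C] J := LinearEquiv.ofInjective gl hglinj
    let φ : J →ₗ[C] ↥(N.map π) := (π.submoduleMap N).comp e.symm.toLinearMap
    have hφ : Function.Surjective φ := by
      intro z
      obtain ⟨w, hw⟩ := LinearMap.submoduleMap_surjective π N z
      exact ⟨e w, by simp [φ, hw]⟩
    have hker : Submodule.comap J.subtype (a • J) ≤ LinearMap.ker φ := by
      intro z hz
      obtain ⟨i, hi, hiz⟩ := Submodule.mem_smul_pointwise_iff_exists _ _ _ |>.mp hz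
      have : z = a • (⟨i, hi⟩ : J) := Subtype.ext hiz.symm
      rw [LinearMap.mem_ker, this, map_smul]
      apply Subtype.ext
      show a • π ((e.symm ⟨i, hi⟩ : N) : B) = 0
      rw [← map_smul]
      exact (Submodule.Quotient.mk_eq_zero _).mpr ⟨_, rfl⟩
    have hs' : Function.Surjective (Submodule.liftQ _ φ hker) := by
      intro z
      obtain ⟨w, hw⟩ := hφ z
      exact ⟨Submodule.Quotient.mk w, hw⟩
    exact (Module.length_le_of_surjective _ hs').trans (DvrDom.length_quot_smul_le ha J hJ)
  have hlift : ∀ P : Submodule C (B ⧸ LinearMap.range (LinearMap.lsmul C B a)), P.FG → ∃ N : Submodule C B, N.FG ∧ N.map π = P := by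
    rintro P ⟨t, rfl⟩
    choose l hl using Submodule.mkQ_surjective (LinearMap.range (LinearMap.lsmul C B a))
    refine ⟨span C (t.image l), ⟨t.image l, rfl⟩, ?_⟩
    rw [Submodule.map_span, Finset.coe_image, ← Set.image_comp,
      show ⇑π ∘ l = id from funext hl, Set.image_id]
  obtain ⟨o, ho⟩ := ENat.ne_top_iff_exists.mp (Ring.ord_ne_top (R := C) (mem_nonZeroDivisors_of_ne_zero ha))
  have hbd : ∀ P : Submodule C (B ⧸ LinearMap.range (LinearMap.lsmul C B a)), P.FG → Module.length C P ≤ o := by
    intro P hP
    obtain ⟨N, hN, rfl⟩ := hlift P hP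
    exact ho ▸ hfg N hN
  haveI := DvrDom.finite_of_forall_fg_length_le o hbd
  have := hbd ⊤ Module.Finite.fg_top
  rw [Module.length_top] at this
  rw [← ho]
  exact this

theorem length_le {r : ℕ} : ∀ {M : Type v} [AddCommGroup M] [Module C M] (ι : M →ₗ[C] (Fin r → K)),
    Function.Injective ι → ∀ {a : C}, a ≠ 0 →
      Module.length C (M ⧸ LinearMap.range (LinearMap.lsmul C M a)) ≤ r * Ring.ord C a := by
  induction r with
  | zero =>
    intro M _ _ ι hι a _
    haveI : Subsingleton M := hι.subsingleton
    haveI : Subsingleton (M ⧸ LinearMap.range (LinearMap.lsmul C M a)) := (Submodule.mkQ_surjective _).subsingleton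
    rw [Module.length_eq_zero]; exact zero_le
  | succ r ih =>
    intro M _ _ ι hι a ha
    let p : M →ₗ[C] K := (LinearMap.proj (Fin.last r)).comp ι
    let A := LinearMap.ker p
    let ιA : A →ₗ[C] (Fin r → K) := (LinearMap.funLeft C K Fin.castSucc).comp (ι.comp A.subtype)
    have hιA : Function.Injective ιA := by
      rw [← LinearMap.ker_eq_bot, LinearMap.ker_eq_bot']
      intro x hx
      refine Subtype.ext (hι ?_)
      rw [ZeroMemClass.coe_zero, map_zero]
      funext i
      induction i using Fin.lastCases with
      | last => exact LinearMap.mem_ker.mp x.2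
      | cast i => exact congrFun hx i
    let B := LinearMap.range p
    let q : M →ₗ[C] B := p.rangeRestrict
    let f : (A ⧸ LinearMap.range (LinearMap.lsmul C A a)) →ₗ[C] M ⧸ LinearMap.range (LinearMap.lsmul C M a) :=
      Submodule.mapQ _ _ A.subtype (by rintro _ ⟨z, rfl⟩; exact ⟨(z : M), rfl⟩)
    let g : (M ⧸ LinearMap.range (LinearMap.lsmul C M a)) →ₗ[C] B ⧸ LinearMap.range (LinearMap.lsmul C B a) :=
      Submodule.mapQ _ _ q (by rintro _ ⟨z, rfl⟩; exact ⟨q z, (map_smul q a z).symm⟩)
    have hg : Function.Surjective g := by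
      intro y
      obtain ⟨⟨_, m, rfl⟩, rfl⟩ := Submodule.mkQ_surjective _ y
      exact ⟨Submodule.Quotient.mk m, rfl⟩
    have hker : LinearMap.ker g = LinearMap.range f := by
      ext y
      obtain ⟨y, rfl⟩ := Submodule.mkQ_surjective _ y
      constructor
      · intro hy
        obtain ⟨⟨_, m, rfl⟩, hm⟩ := (Submodule.Quotient.mk_eq_zero _).mp (LinearMap.mem_ker.mp hy)
        have hmem : y - a • m ∈ A := by
          have := congrArg Subtype.val hm
          simp only [LinearMap.lsmul_apply, Submodule.coe_smul] at this
          simp only [A, LinearMap.mem_ker, map_sub, map_smul]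
          exact sub_eq_zero.mpr this.symm
        refine ⟨Submodule.Quotient.mk ⟨y - a • m, hmem⟩, ?_⟩
        exact (Submodule.Quotient.eq _).mpr ⟨-m, by simp⟩
      · rintro ⟨z, hz⟩
        obtain ⟨z, rfl⟩ := Submodule.mkQ_surjective _ z
        rw [LinearMap.mem_ker, ← hz]
        refine (Submodule.Quotient.mk_eq_zero _).mpr ?_
        have : q (z : M) = 0 := Subtype.ext (LinearMap.mem_ker.mp z.2)
        rw [show q (A.subtype z) = 0 from this]
        exact zero_mem _
    have h1 : Module.length C (M ⧸ LinearMap.range (LinearMap.lsmul C M a)) =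
        Module.length C (LinearMap.range f) + Module.length C (B ⧸ LinearMap.range (LinearMap.lsmul C B a)) :=
      Module.length_eq_add_of_exact (LinearMap.range f).subtype g (Submodule.injective_subtype _) hg
        (LinearMap.exact_iff.mpr (by rw [hker, Submodule.range_subtype]))
    rw [h1, Nat.cast_succ, add_mul, one_mul]
    refine add_le_add ((Module.length_le_of_surjective f.rangeRestrict f.surjective_rangeRestrict).trans (ih ιA hιA ha)) ?_
    exact length_le_ord (K := K) B.subtype B.injective_subtype ha

end Groth.Agent.KALen
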